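import Cfsg.Agent.Lib.Perm.PElementPairs.Pairs

/-!
# Two `p`-elements of an alternating group with non-solvable closure and product not a `p`-element

`exists_pair`: for `p`-elements `u, w ≠ 1` (`p` odd) of a symmetric group of degree at least `5` some
even `g` gives a good pair `u, g w g⁻¹`.
-/

set_option autoImplicit false
set_option linter.style.haveILetI false

namespace CfsgLib.Perm.PElementPairs

open Equiv Equiv.Perm

section Models

/-- The three-cycle model on five points. -/
def uA : Perm (Fin 5) := ⟨![1, 2, 0, 3, 4], ![2, 0, 1, 3, 4], by decide, by decide⟩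
/-- Its partner. -/
def wA : Perm (Fin 5) := ⟨![0, 1, 3, 4, 2], ![0, 1, 4, 2, 3], by decide, by decide⟩
/-- The double three-cycle on six points. -/
def uB : Perm (Fin 6) := ⟨![1, 2, 0, 4, 5, 3], ![2, 0, 1, 5, 3, 4], by decide, by decide⟩
/-- A three-cycle partner. -/
def wB : Perm (Fin 6) := ⟨![0, 1, 3, 4, 2, 5], ![0, 1, 4, 2, 3, 5], by decide, by decide⟩
/-- A double three-cycle partner. -/
def wC : Perm (Fin 6) := ⟨![1, 3, 5, 0, 2, 4], ![3, 0, 4, 1, 5, 2], by decide, by decide⟩

theorem mem_pair_closure {G : Type*} [Group G] (u w : G) :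
    u ∈ Subgroup.closure ({u, w} : Set G) ∧ w ∈ Subgroup.closure ({u, w} : Set G) :=
  ⟨Subgroup.subset_closure (Or.inl rfl), Subgroup.subset_closure (Or.inr rfl)⟩

open scoped commutatorElement

set_option maxRecDepth 20000

theorem both_A : Both 3 uA wA := by
  refine both_of_good (z := Equiv.swap 3 4) (by decide) (by decide) ⟨?_, ?_⟩
  · exact not_ppow_order (m := 5) (by decide) (by decide) (by decide)
  · obtain ⟨hu, hw⟩ := mem_pair_closure uA wA
    exact not_solvable_certificate (x := uA * wA) (y := wA * uA) (mul_mem hu hw) (mul_mem hw hu)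
      (by rw [commutatorElement_def]; decide) (by rw [commutatorElement_def]; decide) (by decide)

theorem both_B : Both 3 uB wB := by
  refine both_of_good (z := Equiv.swap 0 3 * Equiv.swap 1 4 * Equiv.swap 2 5) (by decide) (by decide) ⟨?_, ?_⟩
  · exact not_ppow_order (m := 4) (by decide) (by decide) (by decide)
  · obtain ⟨hu, hw⟩ := mem_pair_closure uB wB
    exact not_solvable_certificate (x := uB * uB * wB) (y := uB * wB * wB * uB * wB)
      (mul_mem (mul_mem hu hu) hw) (mul_mem (mul_mem (mul_mem (mul_mem hu hw) hw) hu) hw)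
      (by rw [commutatorElement_def]; decide) (by rw [commutatorElement_def]; decide) (by decide)

theorem both_C : Both 3 uB wC := by
  refine both_of_good (z := Equiv.swap 0 3 * Equiv.swap 1 4 * Equiv.swap 2 5) (by decide) (by decide) ⟨?_, ?_⟩
  · exact not_ppow_order (m := 5) (by decide) (by decide) (by decide)
  · obtain ⟨hu, hw⟩ := mem_pair_closure uB wC
    exact not_solvable_certificate (x := uB * wC) (y := wC * uB) (mul_mem hu hw) (mul_mem hw hu)
      (by rw [commutatorElement_def]; decide) (by rw [commutatorElement_def]; decide) (by decide)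

end Models

section Orbits

variable {α β : Type*} [Fintype α] [DecidableEq α] [Fintype β] [DecidableEq β]

/-- The orbit of a point under a permutation. -/
def orb (u : Perm α) (x : α) : Finset α := Finset.univ.filter fun z => SameCycle u x z

theorem mem_orb {u : Perm α} {x z : α} : z ∈ orb u x ↔ SameCycle u x z := by simp [orb]

theorem orb_eq_support {u : Perm α} {x : α} (hx : u x ≠ x) : orb u x = (cycleOf u x).support := by
  ext z
  rw [mem_orb, mem_support_cycleOf_iff]
  simp [mem_support.2 hx]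

theorem card_orb_dvd {u : Perm α} {p j : ℕ} (hp : p.Prime) (hu : u ^ p ^ j = 1) (x : α) :
    ∃ k, (orb u x).card = p ^ k := by
  by_cases hx : u x = x
  · refine ⟨0, ?_⟩
    rw [pow_zero, Finset.card_eq_one]
    refine ⟨x, Finset.eq_singleton_iff_unique_mem.2 ⟨mem_orb.2 (SameCycle.refl _ _), fun z hz => ?_⟩⟩
    exact ((mem_orb.1 hz).eq_of_left hx).symm
  · have hmem : (orb u x).card ∈ u.cycleType := by
      rw [orb_eq_support hx, cycleType_def, Multiset.mem_map]
      exact ⟨cycleOf u x, cycleOf_mem_cycleFactorsFinset_iff.2 (mem_support.2 hx), rfl⟩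
    obtain ⟨k, -, hk⟩ := (Nat.dvd_prime_pow hp).1
      ((dvd_of_mem_cycleType hmem).trans (orderOf_dvd_of_pow_eq_one hu))
    exact ⟨k, hk⟩

theorem two_le_card_orb {u : Perm α} {x : α} (hx : u x ≠ x) : 2 ≤ (orb u x).card := by
  refine Finset.one_lt_card.2 ⟨u x, mem_orb.2 (sameCycle_apply_right.2 (SameCycle.refl _ _)), x,
    mem_orb.2 (SameCycle.refl _ _), hx⟩

/-- Invariant subsets of prescribed size. -/
theorem exists_invariant {u : Perm α} {p : ℕ} (hp : p.Prime) :
    ∀ (i m : ℕ) (T : Finset α), (∀ x ∈ T, u x ∈ T) → (∀ x ∈ T, (orb u x).card ∣ p ^ i) →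
      m * p ^ i ≤ T.card → ∃ t, t ⊆ T ∧ (∀ x ∈ t, u x ∈ t) ∧ t.card = m * p ^ i := by
  intro i
  induction i with
  | zero =>
    intro m T _ hdvd hm
    obtain ⟨t, htT, htc⟩ := Finset.exists_subset_card_eq hm
    refine ⟨t, htT, fun x hx => ?_, htc⟩
    have h1 : (orb u x).card = 1 := Nat.dvd_one.1 (by simpa using hdvd x (htT hx))
    by_cases hfix : u x = x
    · rwa [hfix]
    · have := two_le_card_orb hfix
      omega
  | succ i ih =>
    intro m
    induction m with
    | zero => exact fun T _ _ _ => ⟨∅, Finset.empty_subset _, by simp, by simp⟩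
    | succ m ihm =>
      intro T hT hdvd hm
      by_cases hbig : ∃ x ∈ T, (orb u x).card = p ^ (i + 1)
      · obtain ⟨x, hxT, hx⟩ := hbig
        have hsub : orb u x ⊆ T := by
          intro z hz
          obtain ⟨k, rfl⟩ := (mem_orb.1 hz).exists_nat_pow_eq
          rw [Perm.coe_pow]
          clear hz
          induction k with
          | zero => simpa
          | succ k ihk => rw [Function.iterate_succ_apply']; exact hT _ ihk
        obtain ⟨t, htT, htinv, htc⟩ := ihm (T \ orb u x) (fun z hz => by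
            rw [Finset.mem_sdiff, mem_orb] at hz ⊢
            exact ⟨hT z hz.1, fun h => hz.2 (sameCycle_apply_right.1 h)⟩)
          (fun z hz => hdvd z (Finset.mem_sdiff.1 hz).1)
          (by rw [Finset.card_sdiff_of_subset hsub, hx]; rw [add_mul, one_mul] at hm; omega)
        refine ⟨t ∪ orb u x, Finset.union_subset (htT.trans Finset.sdiff_subset) hsub, ?_, ?_⟩
        · intro z hz
          rcases Finset.mem_union.1 hz with hz | hz
          · exact Finset.mem_union_left _ (htinv z hz)
          · exact Finset.mem_union_right _ (mem_orb.2 (sameCycle_apply_right.2 (mem_orb.1 hz)))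
        · rw [Finset.card_union_of_disjoint (Finset.disjoint_left.2 fun z hz => (Finset.mem_sdiff.1 (htT hz)).2),
            htc, hx, add_mul, one_mul]
      · push Not at hbig
        have hdvd' : ∀ z ∈ T, (orb u z).card ∣ p ^ i := fun z hz => by
          obtain ⟨k, hk, he⟩ := (Nat.dvd_prime_pow hp).1 (hdvd z hz)
          rw [he]
          refine pow_dvd_pow p ?_
          have : k ≠ i + 1 := fun h => hbig z hz (h ▸ he)
          omega
        obtain ⟨t, htT, htinv, htc⟩ := ih ((m + 1) * p) T hT hdvd'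
          (le_trans (le_of_eq (by ring)) hm)
        exact ⟨t, htT, htinv, by rw [htc]; ring⟩

theorem permCongr_res_apply {u : Perm α} {s : Finset α} (hu : u ∈ stabSet s) (e : {x // x ∈ s} ≃ β)
    (z : β) : (e.symm (e.permCongr (resSet s ⟨u, hu⟩) z) : α) = u (e.symm z) := by
  rw [Equiv.permCongr_apply, Equiv.symm_apply_apply]
  rfl

theorem permCongr_res_ppow {u : Perm α} {s : Finset α} (hu : u ∈ stabSet s) (e : {x // x ∈ s} ≃ β) {k : ℕ}
    (hk : u ^ k = 1) : e.permCongr (resSet s ⟨u, hu⟩) ^ k = 1 := by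
  have h1 : (⟨u, hu⟩ : stabSet s) ^ k = 1 := Subtype.ext hk
  have h2 := congrArg (e.permCongrHom.toMonoidHom.comp (resSet s)) h1
  rwa [map_pow, map_one] at h2

theorem card_support_res {u : Perm α} {s : Finset α} (hu : u ∈ stabSet s) (e : {x // x ∈ s} ≃ β) :
    (e.permCongr (resSet s ⟨u, hu⟩)).support.card = (s.filter fun x => u x ≠ x).card := by
  refine Finset.card_bij (fun z _ => (e.symm z : α)) (fun z hz => ?_) (fun z _ z' _ h => ?_) (fun x hx => ?_)
  · rw [Finset.mem_filter]
    refine ⟨(e.symm z).2, fun h => mem_support.1 hz ?_⟩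
    refine e.symm.injective (Subtype.ext ?_)
    rw [permCongr_res_apply, h]
  · exact e.symm.injective (Subtype.ext h)
  · rw [Finset.mem_filter] at hx
    refine ⟨e ⟨x, hx.1⟩, mem_support.2 fun h => hx.2 ?_, by rw [e.symm_apply_apply]⟩
    have := congrArg (fun z => (e.symm z : α)) h
    rwa [permCongr_res_apply, e.symm_apply_apply] at this

theorem isConj_of_cube {σ τ : Perm β} (hσ : σ ^ 3 = 1) (hτ : τ ^ 3 = 1)
    (h : σ.support.card = τ.support.card) : IsConj σ τ := by
  haveI : Fact (Nat.Prime 3) := ⟨Nat.prime_three⟩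
  rw [isConj_iff_cycleType_eq]
  have h1 := cycleType_of_pow_prime_eq_one (p := 3) hσ
  have h2 := cycleType_of_pow_prime_eq_one (p := 3) hτ
  have e1 : σ.cycleType.card * 3 = τ.cycleType.card * 3 := by
    rw [← sum_cycleType, ← sum_cycleType, h1, h2] at h
    simpa using h
  rw [h1, h2, show σ.cycleType.card = τ.cycleType.card by omega]

theorem exists_set_small {u : Perm α} {k : ℕ} (hk : u.support.card ≤ k) (hkn : k ≤ Fintype.card α) :
    ∃ s : Finset α, s.card = k ∧ u ∈ stabSet s ∧ (s.filter fun x => u x ≠ x).card = u.support.card := by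
  obtain ⟨s, hs1, -, hs2⟩ := Finset.exists_subsuperset_card_eq (Finset.subset_univ u.support) hk
    (hkn.trans_eq Finset.card_univ.symm)
  refine ⟨s, hs2, mem_stabSet fun x hx => ?_, congrArg Finset.card ?_⟩
  · by_cases h : u x = x
    · rwa [h]
    · exact hs1 (mem_support.2 fun h' => h (u.injective h'))
  · ext x
    rw [Finset.mem_filter, mem_support]
    exact ⟨fun h => h.2, fun h => ⟨hs1 (mem_support.2 h), h⟩⟩

theorem exists_set_large {u : Perm α} (hu : ∀ x, (orb u x).card ∣ 3) (h6 : 6 ≤ u.support.card) :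
    ∃ s : Finset α, s.card = 6 ∧ u ∈ stabSet s ∧ (s.filter fun x => u x ≠ x).card = 6 := by
  obtain ⟨s, hsT, hsinv, hsc⟩ := exists_invariant (u := u) Nat.prime_three 1 2 u.support
    (fun x hx => apply_mem_support.2 hx) (fun x _ => by simpa using hu x) (by simpa using h6)
  refine ⟨s, by simpa using hsc, mem_stabSet hsinv, ?_⟩
  rw [Finset.filter_true_of_mem fun x hx => mem_support.1 (hsT hx)]
  simpa using hsc

theorem cube_of_orbits {u : Perm α} (hu : ∀ x, (orb u x).card ∣ 3) : u ^ 3 = 1 := by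
  haveI : Fact (Nat.Prime 3) := ⟨Nat.prime_three⟩
  rw [pow_prime_eq_one_iff]
  intro c hc
  rw [cycleType_def, Multiset.mem_map] at hc
  obtain ⟨f, hf, rfl⟩ := hc
  have hf' : f ∈ u.cycleFactorsFinset := hf
  obtain ⟨x, hx⟩ := (mem_cycleFactorsFinset_iff.1 hf').1.nonempty_support
  have hfe : f = cycleOf u x := cycle_is_cycleOf hx hf'
  have hux : u x ≠ x := mem_support.1 (mem_cycleFactorsFinset_support_le hf' hx)
  have h3 := hu x
  rw [orb_eq_support hux, ← hfe] at h3
  exact ((Nat.dvd_prime Nat.prime_three).1 h3).resolve_left (fun h1 => by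
    have := (mem_cycleFactorsFinset_iff.1 hf').1.two_le_card_support
    omega)

/-- The case of elements of order three. -/
theorem exists_pair_three (hn : 5 ≤ Fintype.card α) {u w : Perm α} (hu : u ^ 3 = 1) (hw : w ^ 3 = 1)
    (hu1 : u ≠ 1) (hw1 : w ≠ 1) (huo : ∀ x, (orb u x).card ∣ 3) (hwo : ∀ x, (orb w x).card ∣ 3)
    (hle : w.support.card ≤ u.support.card) :
    ∃ g : Perm α, sign g = 1 ∧ Good 3 u (g * w * g⁻¹) := by
  have hsupp : ∀ {v : Perm α}, v ^ 3 = 1 → v ≠ 1 → v.support.card = 3 ∨ 6 ≤ v.support.card := by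
    intro v hv hv1
    haveI : Fact (Nat.Prime 3) := ⟨Nat.prime_three⟩
    have h1 := cycleType_of_pow_prime_eq_one (p := 3) hv
    have h2 : v.support.card = v.cycleType.card * 3 := by
      rw [← sum_cycleType, h1]; simp
    have h3 : v.support.card ≠ 0 := fun h => hv1 (card_support_eq_zero.1 h)
    omega
  have key : ∀ (k : ℕ) (s t : Finset α) (hs : u ∈ stabSet s) (ht : w ∈ stabSet t), s.card = k → t.card = k →
      ∀ (σ τ : Perm (Fin k)), σ ^ 3 = 1 → τ ^ 3 = 1 →
        (s.filter fun x => u x ≠ x).card = σ.support.card →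
        (t.filter fun x => w x ≠ x).card = τ.support.card → Both 3 σ τ →
        ∃ g : Perm α, sign g = 1 ∧ Good 3 u (g * w * g⁻¹) := by
    intro k s t hs ht hsc htc σ τ hσ hτ hσc hτc hb
    let e₁ : {x // x ∈ s} ≃ Fin k := Fintype.equivFinOfCardEq (by rw [Fintype.card_coe, hsc])
    let e₂ : {x // x ∈ t} ≃ Fin k := Fintype.equivFinOfCardEq (by rw [Fintype.card_coe, htc])
    refine exists_even_good Nat.prime_three hs ht e₁ e₂ (both_of_isConj ?_ ?_ hb)
    · exact isConj_of_cube hσ (permCongr_res_ppow hs e₁ hu) (by rw [card_support_res, hσc])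
    · exact isConj_of_cube hτ (permCongr_res_ppow ht e₂ hw) (by rw [card_support_res, hτc])
  rcases hsupp hu hu1 with hu3 | hu6
  · have hw3 : w.support.card = 3 := by
      rcases hsupp hw hw1 with h | h <;> omega
    obtain ⟨s, hsc, hs, hsf⟩ := exists_set_small (u := u) (k := 5) (by omega) hn
    obtain ⟨t, htc, ht, htf⟩ := exists_set_small (u := w) (k := 5) (by omega) hn
    exact key 5 s t hs ht hsc htc uA wA (by decide) (by decide) (by rw [hsf, hu3]; decide)
      (by rw [htf, hw3]; decide) both_A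
  · obtain ⟨s, hsc, hs, hsf⟩ := exists_set_large huo hu6
    have h6 : 6 ≤ Fintype.card α := hu6.trans (Finset.card_le_univ _)
    rcases hsupp hw hw1 with hw3 | hw6
    · obtain ⟨t, htc, ht, htf⟩ := exists_set_small (u := w) (k := 6) (by omega) h6
      exact key 6 s t hs ht hsc htc uB wB (by decide) (by decide) (by rw [hsf]; decide)
        (by rw [htf, hw3]; decide) both_B
    · obtain ⟨t, htc, ht, htf⟩ := exists_set_large hwo hw6
      exact key 6 s t hs ht hsc htc uB wC (by decide) (by decide) (by rw [hsf]; decide)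
        (by rw [htf]; decide) both_C

/-- The case in which `u` has a cycle of length at least five and at least as long as those of `w`. -/
theorem exists_pair_long {p i j : ℕ} (hp : p.Prime) (hp3 : 3 ≤ p) {u w : Perm α} {l : ℕ}
    (hw : w ^ p ^ l = 1) {x y : α} (hx : (orb u x).card = p ^ i) (hxm : u x ≠ x) (h5 : 5 ≤ p ^ i)
    (hy : (orb w y).card = p ^ j) (hym : w y ≠ y) (hmax : ∀ z, (orb w z).card ∣ p ^ j) (hji : j ≤ i) :
    ∃ g : Perm α, sign g = 1 ∧ Good p u (g * w * g⁻¹) := by
  have hi : 1 ≤ i := by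
    rcases Nat.eq_zero_or_pos i with rfl | h
    · simp at h5
    · exact h
  haveI : NeZero (p ^ i) := ⟨(pow_pos hp.pos i).ne'⟩
  have hpow : p ^ (i - j) * p ^ j = p ^ i := by rw [← pow_add, Nat.sub_add_cancel hji]
  have hpos : 1 ≤ p ^ (i - j) := pow_pos hp.pos _
  have hn : p ^ i ≤ Fintype.card α := hx ▸ Finset.card_le_univ _
  obtain ⟨t', ht'T, ht'inv, ht'c⟩ := exists_invariant (u := w) hp j (p ^ (i - j) - 1) (orb w y)ᶜ
    (fun z hz => by
      rw [Finset.mem_compl, mem_orb] at hz ⊢
      exact fun h => hz (sameCycle_apply_right.1 h))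
    (fun z _ => hmax z) (by rw [Finset.card_compl, hy, Nat.sub_mul, hpow, one_mul]; omega)
  set t := orb w y ∪ t' with ht
  have hdisj : Disjoint (orb w y) t' := Finset.disjoint_left.2 fun z hz hz' =>
    Finset.mem_compl.1 (ht'T hz') hz
  have htc : t.card = p ^ i := by
    rw [ht, Finset.card_union_of_disjoint hdisj, hy, ht'c, Nat.sub_mul, hpow, one_mul]
    have : p ^ j ≤ p ^ i := Nat.pow_le_pow_right hp.pos hji
    omega
  have hts : w ∈ stabSet t := mem_stabSet fun z hz => by
    rcases Finset.mem_union.1 hz with hz | hz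
    · exact Finset.mem_union_left _ (mem_orb.2 (sameCycle_apply_right.2 (mem_orb.1 hz)))
    · exact Finset.mem_union_right _ (ht'inv z hz)
  have hus : u ∈ stabSet (orb u x) := mem_stabSet fun z hz =>
    mem_orb.2 (sameCycle_apply_right.2 (mem_orb.1 hz))
  let e₁ : {z // z ∈ orb u x} ≃ ZMod (p ^ i) :=
    Fintype.equivOfCardEq (by rw [Fintype.card_coe, hx, ZMod.card])
  let e₂ : {z // z ∈ t} ≃ ZMod (p ^ i) := Fintype.equivOfCardEq (by rw [Fintype.card_coe, htc, ZMod.card])
  refine exists_even_good hp hus hts e₁ e₂ (both_of_isConj ?_ (IsConj.refl _)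
    (both_cycle hp hp3 hi rfl h5 ⟨l, permCongr_res_ppow hts e₂ hw⟩ fun h1 => hym ?_))
  · set σ := e₁.permCongr (resSet (orb u x) ⟨u, hus⟩) with hσ
    have hmove : ∀ z, σ z ≠ z := fun z hz => by
      have h1 := permCongr_res_apply hus e₁ z
      rw [← hσ, hz] at h1
      have hz' := mem_orb.1 (e₁.symm z).2
      exact hxm (hz'.apply_eq_self_iff.2 h1.symm)
    have hcyc : σ.IsCycle := by
      refine ⟨e₁ ⟨x, mem_orb.2 (SameCycle.refl _ _)⟩, hmove _, fun z _ => ?_⟩
      obtain ⟨k, hk⟩ := (mem_orb.1 (e₁.symm z).2).exists_nat_pow_eq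
      refine ⟨(k : ℤ), e₁.symm.injective (Subtype.ext ?_)⟩
      rw [zpow_natCast, ← hk]
      clear hk
      induction k with
      | zero => simp
      | succ k ihk => rw [pow_succ' σ, Perm.mul_apply, hσ, permCongr_res_apply, ← hσ, ihk, pow_succ', Perm.mul_apply]
    have hsup : σ.support = Finset.univ := Finset.eq_univ_iff_forall.2 fun z => mem_support.2 (hmove z)
    obtain ⟨hr1, hr2⟩ := rot_isCycle (a := p ^ i) (by omega)
    rw [isConj_iff_cycleType_eq, hr1.cycleType, hcyc.cycleType, hr2, hsup]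
  · have h2 := permCongr_res_apply hts e₂
      (e₂ ⟨y, Finset.mem_union_left _ (mem_orb.2 (SameCycle.refl _ _))⟩)
    rw [h1, Perm.one_apply, e₂.symm_apply_apply] at h2
    exact h2.symm

theorem exists_max_orb {u : Perm α} {p : ℕ} (hp : p.Prime) (hu : ∃ j, u ^ p ^ j = 1) (hu1 : u ≠ 1) :
    ∃ x i, u x ≠ x ∧ (orb u x).card = p ^ i ∧ ∀ z, (orb u z).card ∣ p ^ i := by
  obtain ⟨j, hj⟩ := hu
  obtain ⟨x₀, hx₀⟩ : ∃ x, u x ≠ x := by
    by_contra h0
    push Not at h0
    exact hu1 (Equiv.ext h0)
  obtain ⟨x, -, hx⟩ := Finset.exists_max_image Finset.univ (fun z => (orb u z).card) ⟨x₀, Finset.mem_univ _⟩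
  obtain ⟨i, hi⟩ := card_orb_dvd hp hj x
  refine ⟨x, i, fun hfix => ?_, hi, fun z => ?_⟩
  · have h1 : (orb u x).card ≤ 1 := Finset.card_le_one.2 fun a ha b hb =>
      ((mem_orb.1 ha).eq_of_left hfix).symm.trans ((mem_orb.1 hb).eq_of_left hfix)
    have := hx x₀ (Finset.mem_univ _)
    have := two_le_card_orb hx₀
    omega
  · obtain ⟨k, hk⟩ := card_orb_dvd hp hj z
    rw [hk]
    refine pow_dvd_pow p ((Nat.pow_le_pow_iff_right hp.one_lt).1 ?_)
    rw [← hk, ← hi]
    exact hx z (Finset.mem_univ _)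

theorem exists_pair_symm {p : ℕ} {u w : Perm α} (h : ∃ g : Perm α, sign g = 1 ∧ Good p w (g * u * g⁻¹)) :
    ∃ g : Perm α, sign g = 1 ∧ Good p u (g * w * g⁻¹) := by
  obtain ⟨g, hg, hgood⟩ := h
  refine ⟨g⁻¹, by rw [map_inv, hg, inv_one], ?_⟩
  have := good_symm (good_conj g⁻¹ hgood)
  rwa [show g⁻¹ * (g * u * g⁻¹) * g⁻¹⁻¹ = u by group] at this

theorem exists_pair (hn : 5 ≤ Fintype.card α) {p : ℕ} (hp : p.Prime) (hp3 : 3 ≤ p) {u w : Perm α}
    (hu1 : u ≠ 1) (hw1 : w ≠ 1) (hu : ∃ j, u ^ p ^ j = 1) (hw : ∃ j, w ^ p ^ j = 1) :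
    ∃ g : Perm α, sign g = 1 ∧ Good p u (g * w * g⁻¹) := by
  obtain ⟨x, i, hxm, hx, hxmax⟩ := exists_max_orb hp hu hu1
  obtain ⟨y, j, hym, hy, hymax⟩ := exists_max_orb hp hw hw1
  obtain ⟨lu, hlu⟩ := hu
  obtain ⟨lw, hlw⟩ := hw
  by_cases h5 : 5 ≤ p ^ max i j
  · rcases le_total j i with h | h
    · exact exists_pair_long hp hp3 hlw hx hxm (by rwa [max_eq_left h] at h5) hy hym hymax h
    · exact exists_pair_symm
        (exists_pair_long hp hp3 hlu hy hym (by rwa [max_eq_right h] at h5) hx hxm hxmax h)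
  · have hm1 : max i j ≤ 1 := by
      by_contra h2
      have h9 := (Nat.pow_le_pow_left hp3 2).trans (Nat.pow_le_pow_right hp.pos (show 2 ≤ max i j by omega))
      omega
    have hi1 : 1 ≤ i := by
      rcases Nat.eq_zero_or_pos i with rfl | h
      · have := two_le_card_orb hxm
        simp [hx] at this
      · exact h
    have hp3' : p = 3 := by
      rw [show max i j = 1 by omega, pow_one] at h5
      rcases (show p = 3 ∨ p = 4 by omega) with h | h
      · exact h
      · exact absurd (h ▸ hp) (by norm_num)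
    subst hp3'
    have huo : ∀ z, (orb u z).card ∣ 3 := fun z =>
      (hxmax z).trans ((pow_dvd_pow 3 (show i ≤ 1 by omega)).trans (dvd_of_eq (pow_one 3)))
    have hwo : ∀ z, (orb w z).card ∣ 3 := fun z =>
      (hymax z).trans ((pow_dvd_pow 3 (show j ≤ 1 by omega)).trans (dvd_of_eq (pow_one 3)))
    have hu3 := cube_of_orbits huo
    have hw3 := cube_of_orbits hwo
    rcases le_total w.support.card u.support.card with h | h
    · exact exists_pair_three hn hu3 hw3 hu1 hw1 huo hwo h
    · exact exists_pair_symm (exists_pair_three hn hw3 hu3 hw1 hu1 hwo huo h)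

end Orbits

end CfsgLib.Perm.PElementPairs
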