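import Cfsg.Agent.Lib.Perm.PElementPairs.Residue

/-!
# Pairs of `p`-elements with non-solvable closure and product not a `p`-element
-/

set_option autoImplicit false
set_option linter.style.haveILetI false

namespace CfsgLib.Perm.PElementPairs

open Equiv Equiv.Perm

section Good

variable {α β : Type*} {p : ℕ}

/-- `u * w` is not a `p`-element and `⟨u, w⟩` is not solvable. -/
def Good (p : ℕ) (u w : Perm α) : Prop :=
  (¬ ∃ k : ℕ, orderOf (u * w) = p ^ k) ∧ ¬ Group.IsSolvable (Subgroup.closure ({u, w} : Set (Perm α)))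

/-- Both parities of conjugating element give a good pair. -/
def Both [Fintype α] [DecidableEq α] (p : ℕ) (u w : Perm α) : Prop :=
  ∀ e : ℤˣ, ∃ g : Perm α, sign g = e ∧ Good p u (g * w * g⁻¹)

/-- A good pair stays good under pulling back along a homomorphism. -/
theorem good_of_hom {G H : Type*} [Group G] [Finite G] [Group H] (f : G →* H) (u w : G) (hp : p.Prime)
    (h : (¬ ∃ k : ℕ, orderOf (f u * f w) = p ^ k) ∧ ¬ Group.IsSolvable (Subgroup.closure ({f u, f w} : Set H))) :
    (¬ ∃ k : ℕ, orderOf (u * w) = p ^ k) ∧ ¬ Group.IsSolvable (Subgroup.closure ({u, w} : Set G)) := by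
  refine ⟨?_, ?_⟩
  · rintro ⟨k, hk⟩
    have hd := orderOf_map_dvd f (u * w)
    rw [map_mul, hk] at hd
    obtain ⟨j, -, hj⟩ := (Nat.dvd_prime_pow hp).1 hd
    exact h.1 ⟨j, hj⟩
  · intro hs
    haveI := hs
    have hmap : (Subgroup.closure ({u, w} : Set G)).map f = Subgroup.closure ({f u, f w} : Set H) := by
      rw [MonoidHom.map_closure, Set.image_pair]
    refine h.2 ?_
    rw [← hmap]
    exact Group.isSolvable_of_surjective (f.subgroupMap_surjective _)

theorem good_of_injective_hom {G H : Type*} [Group G] [Group H] (f : G →* H) (hf : Function.Injective f)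
    (u w : G)
    (h : (¬ ∃ k : ℕ, orderOf (u * w) = p ^ k) ∧ ¬ Group.IsSolvable (Subgroup.closure ({u, w} : Set G))) :
    (¬ ∃ k : ℕ, orderOf (f u * f w) = p ^ k) ∧ ¬ Group.IsSolvable (Subgroup.closure ({f u, f w} : Set H)) := by
  refine ⟨?_, ?_⟩
  · rw [← map_mul, orderOf_injective f hf]
    exact h.1
  · intro hs
    haveI := hs
    have hmap : (Subgroup.closure ({u, w} : Set G)).map f = Subgroup.closure ({f u, f w} : Set H) := by
      rw [MonoidHom.map_closure, Set.image_pair]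
    refine h.2 ?_
    haveI : Group.IsSolvable ((Subgroup.closure ({u, w} : Set G)).map f) := hmap ▸ hs
    exact Group.isSolvable_of_isSolvable_injective
      (f := ((Subgroup.closure ({u, w} : Set G)).equivMapOfInjective f hf).toMonoidHom)
      ((Subgroup.closure ({u, w} : Set G)).equivMapOfInjective f hf).injective

theorem good_conj (c : Perm α) {u w : Perm α} (h : Good p u w) : Good p (c * u * c⁻¹) (c * w * c⁻¹) :=
  good_of_injective_hom (MulAut.conj c).toMonoidHom (MulAut.conj c).injective u w h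

theorem good_symm {u w : Perm α} (h : Good p u w) : Good p w u := by
  refine ⟨?_, ?_⟩
  · rw [show orderOf (w * u) = orderOf (u * w) by
      rw [show u * w = u * (w * u) * u⁻¹ by group]
      exact (orderOf_injective (MulAut.conj u).toMonoidHom (MulAut.conj u).injective (w * u)).symm]
    exact h.1
  · rw [Set.pair_comm]
    exact h.2

variable [Fintype α] [DecidableEq α] [Fintype β] [DecidableEq β]

theorem both_conj {u w : Perm α} (c d : Perm α) (h : Both p u w) :
    Both p (c * u * c⁻¹) (d * w * d⁻¹) := by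
  intro e
  obtain ⟨g, hg, hgood⟩ := h (sign c * e * sign d)
  refine ⟨c * g * d⁻¹, ?_, ?_⟩
  · rw [map_mul, map_mul, map_inv, hg, Int.units_inv_eq_self]
    have h1 : sign c * sign c = 1 := Int.units_mul_self _
    have h2 : sign d * sign d = 1 := Int.units_mul_self _
    calc sign c * (sign c * e * sign d) * sign d = (sign c * sign c) * e * (sign d * sign d) := by
          simp only [mul_assoc]
      _ = e := by rw [h1, h2, one_mul, mul_one]
  · have := good_conj c hgood
    rwa [show c * g * d⁻¹ * (d * w * d⁻¹) * (c * g * d⁻¹)⁻¹ = c * (g * w * g⁻¹) * c⁻¹ by group]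

theorem both_of_isConj {u u' w w' : Perm α} (hu : IsConj u u') (hw : IsConj w w') (h : Both p u w) :
    Both p u' w' := by
  obtain ⟨c, rfl⟩ := isConj_iff.1 hu
  obtain ⟨d, rfl⟩ := isConj_iff.1 hw
  exact both_conj c d h

theorem both_of_good {u w z : Perm α} (hz : sign z = -1) (hzu : z * u * z⁻¹ = u) (h : Good p u w) :
    Both p u w := by
  intro e
  rcases Int.units_eq_one_or e with rfl | rfl
  · exact ⟨1, map_one _, by rwa [one_mul, inv_one, mul_one]⟩
  · refine ⟨z, hz, ?_⟩
    have := good_conj z h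
    rwa [hzu] at this

/-- The permutations preserving a finite set. -/
def stabSet (s : Finset α) : Subgroup (Perm α) where
  carrier := {g | ∀ x, g x ∈ s ↔ x ∈ s}
  one_mem' := fun x => Iff.rfl
  mul_mem' := fun {a b} ha hb x => (ha (b x)).trans (hb x)
  inv_mem' := fun {a} ha x => by
    conv_rhs => rw [← a.apply_symm_apply x]
    exact (ha _).symm

/-- Restriction to an invariant finite set. -/
def resSet (s : Finset α) : stabSet s →* Perm {x // x ∈ s} where
  toFun g := (g : Perm α).subtypePerm g.2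
  map_one' := Equiv.ext fun _ => rfl
  map_mul' _ _ := Equiv.ext fun _ => rfl

theorem mem_stabSet {s : Finset α} {g : Perm α} (h : ∀ x ∈ s, g x ∈ s) : g ∈ stabSet s := by
  intro x
  refine ⟨fun hx => ?_, h x⟩
  have himg : s.image g = s := Finset.eq_of_subset_of_card_le
    (fun y hy => by obtain ⟨z, hz, rfl⟩ := Finset.mem_image.1 hy; exact h z hz)
    (le_of_eq (Finset.card_image_of_injective s g.injective).symm)
  rw [← himg, Finset.mem_image] at hx
  obtain ⟨z, hz, hzx⟩ := hx
  rwa [← g.injective hzx]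

/-- Reduction to invariant sets. -/
theorem exists_even_good (hp : p.Prime) {u w : Perm α} {s t : Finset α} (hu : u ∈ stabSet s)
    (hw : w ∈ stabSet t) (e₁ : {x // x ∈ s} ≃ β) (e₂ : {x // x ∈ t} ≃ β)
    (h : Both p (e₁.permCongr (resSet s ⟨u, hu⟩)) (e₂.permCongr (resSet t ⟨w, hw⟩))) :
    ∃ g : Perm α, sign g = 1 ∧ Good p u (g * w * g⁻¹) := by
  let e : {x // x ∈ t} ≃ {x // x ∈ s} := e₂.trans e₁.symm
  let c : Perm α := e.extendSubtype
  obtain ⟨γ, hγ, hgood⟩ := h (sign c)
  let π : Perm α := Perm.ofSubtype (e₁.symm.permCongr γ)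
  refine ⟨π * c, ?_, ?_⟩
  · rw [map_mul, sign_ofSubtype, sign_permCongr, hγ, Int.units_mul_self]
  · have hπ : ∀ x : {x // x ∈ s}, π x = (e₁.symm.permCongr γ x : α) := fun x => ofSubtype_apply_coe _ x
    have hc : ∀ x : {x // x ∈ t}, c x = (e x : α) := fun x => by
      rw [Equiv.extendSubtype_apply_of_mem _ _ x.2]
    have hsmul : ∀ x : {x // x ∈ t}, (π * c) x = (e₁.symm (γ (e₂ x)) : α) := fun x => by
      rw [Perm.mul_apply, hc, hπ, Equiv.permCongr_apply]
      simp [e]
    have hgs : ∀ y : {x // x ∈ s}, ((π * c)⁻¹ : Perm α) y = (e₂.symm (γ⁻¹ (e₁ y)) : α) := fun y => by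
      rw [Perm.inv_eq_iff_eq, hsmul, e₂.apply_symm_apply]
      simp
    have hw' : (π * c) * w * (π * c)⁻¹ ∈ stabSet s := mem_stabSet fun y hy => by
      rw [Perm.mul_apply, Perm.mul_apply, hgs ⟨y, hy⟩]
      have := hsmul ⟨w _, (hw _).2 (e₂.symm (γ⁻¹ (e₁ ⟨y, hy⟩))).2⟩
      rw [this]
      exact Subtype.coe_prop _
    have hres : e₁.permCongr (resSet s ⟨_, hw'⟩) = γ * e₂.permCongr (resSet t ⟨w, hw⟩) * γ⁻¹ := by
      refine Equiv.ext fun b => ?_
      rw [Equiv.permCongr_apply, Perm.mul_apply, Perm.mul_apply, Equiv.permCongr_apply]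
      refine e₁.symm.injective ?_
      rw [e₁.symm_apply_apply]
      refine Subtype.ext ?_
      show ((π * c) * w * (π * c)⁻¹) (e₁.symm b : α) = _
      rw [Perm.mul_apply, Perm.mul_apply, hgs, e₁.apply_symm_apply]
      exact hsmul (resSet t ⟨w, hw⟩ (e₂.symm (γ⁻¹ b)))
    rw [← hres] at hgood
    have h1 := good_of_hom (p := p) (e₁.permCongrHom.toMonoidHom.comp (resSet s)) ⟨u, hu⟩ ⟨_, hw'⟩ hp hgood
    exact good_of_injective_hom (stabSet s).subtype (stabSet s).subtype_injective _ _ h1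

end Good

section Certificates

variable {H : Type*} [Group H]

open scoped commutatorElement in
theorem not_solvable_certificate {u w x y : H} (hx : x ∈ Subgroup.closure ({u, w} : Set H))
    (hy : y ∈ Subgroup.closure ({u, w} : Set H)) (h1 : x = ⁅x * y, x * y * y⁆) (h2 : y = ⁅x * y, x⁆)
    (hne : x ≠ 1) : ¬ Group.IsSolvable (Subgroup.closure ({u, w} : Set H)) := by
  set C := Subgroup.closure ({u, w} : Set H)
  let a : C := ⟨x, hx⟩
  let b : C := ⟨y, hy⟩
  have ha : a = ⁅a * b, a * b * b⁆ := Subtype.ext h1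
  have hb : b = ⁅a * b, a⁆ := Subtype.ext h2
  refine not_isSolvable_of_mem_derivedSeries (g := a) (fun h => hne (congrArg Subtype.val h)) fun n => ?_
  suffices a ∈ derivedSeries C n ∧ b ∈ derivedSeries C n from this.1
  induction n with
  | zero => exact ⟨Subgroup.mem_top _, Subgroup.mem_top _⟩
  | succ n ih =>
    refine ⟨?_, ?_⟩
    · rw [ha]
      exact Subgroup.commutator_mem_commutator (mul_mem ih.1 ih.2) (mul_mem (mul_mem ih.1 ih.2) ih.2)
    · rw [hb]
      exact Subgroup.commutator_mem_commutator (mul_mem ih.1 ih.2) ih.1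

theorem not_ppow_order {z : H} {p m : ℕ} (hm : z ^ m = 1) (hcop : Nat.Coprime p m) (hz : z ≠ 1) :
    ¬ ∃ k : ℕ, orderOf z = p ^ k := by
  rintro ⟨k, hk⟩
  refine hz (orderOf_eq_one_iff.1 (Nat.eq_one_of_dvd_coprimes (hcop.pow_left k) ?_ (orderOf_dvd_of_pow_eq_one hm)))
  rw [hk]

end Certificates

section Cycle

variable {p i a : ℕ} [NeZero a]

theorem rot_isCycle (ha : 2 ≤ a) : (rot a).IsCycle ∧ (rot a).support = Finset.univ := by
  have h1 : ∀ x : ZMod a, rot a x ≠ x := fun x h => by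
    haveI : Fact (1 < a) := ⟨by omega⟩
    exact one_ne_zero (α := ZMod a) (by simpa [rot] using h)
  refine ⟨⟨0, h1 0, fun y _ => ⟨(y.val : ℤ), ?_⟩⟩, Finset.eq_univ_iff_forall.2 fun x => mem_support.2 (h1 x)⟩
  rw [zpow_natCast, rot_pow_apply, ZMod.natCast_zmod_val, zero_add]

theorem val_modEq (hpa : p ∣ a) (x : ZMod a) : ((x.val : ℕ) : ZMod p) = ZMod.castHom hpa (ZMod p) x := by
  conv_rhs => rw [← ZMod.natCast_zmod_val x, map_natCast]

theorem natCast_ne {j k : ℕ} (hj : j < a) (hk : k < a) (h : j ≠ k) : (j : ZMod a) ≠ k := by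
  intro he
  have := congrArg ZMod.val he
  rw [ZMod.val_natCast_of_lt hj, ZMod.val_natCast_of_lt hk] at this
  exact h this

/-- A criterion excluding solvability from two residue conditions. -/
theorem not_solvable_of_residues (hp : p.Prime) (hp3 : 3 ≤ p) (hi : 1 ≤ i) (ha : a = p ^ i)
    {τ : Perm (ZMod a)} (hτ : ∃ j : ℕ, τ ^ p ^ j = 1) (x y : ZMod a) (d : ℤ)
    (hd : τ x - x = τ y - y + d) (hpd : ¬ (p : ℤ) ∣ d) :
    ¬ Group.IsSolvable (Subgroup.closure ({rot a, τ} : Set (Perm (ZMod a)))) := by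
  intro hs
  obtain ⟨c, hc⟩ := residue_shift hp hp3 hi ha τ hτ hs
  have hpa : p ∣ a := ha ▸ dvd_pow_self p (by omega)
  let f := ZMod.castHom hpa (ZMod p)
  have hz : ∀ z : ZMod a, f (τ z - z) = c := fun z => by
    have := (ZMod.natCast_eq_natCast_iff _ _ p).2 (hc z)
    rw [Nat.cast_add, val_modEq hpa, val_modEq hpa] at this
    rw [map_sub]
    exact sub_eq_iff_eq_add.2 this
  apply hpd
  rw [← ZMod.intCast_zmod_eq_zero_iff_dvd]
  have := congrArg f hd
  rw [map_add, hz, hz, map_intCast] at this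
  exact left_eq_add.1 this

/-- A permutation with all orbits of odd prime-power size cannot swap two points. -/
theorem swap_not_ppow {α : Type*} {π : Perm α} (hp : p.Prime) (hp3 : 3 ≤ p) {x y : α}
    (hxy : π x = y) (hyx : π y = x) (hne : x ≠ y) : ¬ ∃ k : ℕ, orderOf π = p ^ k := by
  rintro ⟨k, hk⟩
  have h2 : Function.IsPeriodicPt π 2 x := by
    show π (π x) = x
    rw [hxy, hyx]
  have hk' : Function.IsPeriodicPt π (p ^ k) x := by
    show π^[p ^ k] x = x
    rw [← Perm.coe_pow, ← hk, pow_orderOf_eq_one, Perm.one_apply]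
  have hg := h2.gcd hk'
  rw [Nat.Coprime.gcd_eq_one ((Nat.coprime_primes Nat.prime_two hp).2 (by omega) |>.pow_right k)] at hg
  have h1 : π x = x := hg
  exact hne (h1.symm.trans hxy)

theorem conj_ppow {G : Type*} [Group G] {τ : G} {q : ℕ} (h : ∃ j : ℕ, τ ^ q ^ j = 1) (g : G) :
    ∃ j : ℕ, (g * τ * g⁻¹) ^ q ^ j = 1 := by
  obtain ⟨j, hj⟩ := h
  exact ⟨j, by rw [conj_pow, hj, mul_one, mul_inv_cancel]⟩

theorem conj_eval {α : Type*} (π τ : Perm α) {x y z : α} (hx : π x = y) (hz : π (τ x) = z) :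
    (π * τ * π⁻¹) y = z := by
  rw [← hx, Perm.mul_apply, Perm.mul_apply, Perm.coe_inv, π.symm_apply_apply, hz]

theorem cast_ne_five (ha5 : 5 ≤ a) : (0 : ZMod a) ≠ 1 ∧ (0 : ZMod a) ≠ 2 ∧ (1 : ZMod a) ≠ 2 ∧
    (0 : ZMod a) ≠ -1 ∧ (1 : ZMod a) ≠ -1 ∧ (2 : ZMod a) ≠ -1 := by
  have hneg : ∀ k : ℕ, k + 1 < a → (k : ZMod a) ≠ -1 := fun k hk => by
    intro h
    have h' : ((k + 1 : ℕ) : ZMod a) = ((0 : ℕ) : ZMod a) := by push_cast; rw [h]; ring
    exact natCast_ne hk (by omega) (by omega) h'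
  exact ⟨by exact_mod_cast natCast_ne (a := a) (j := 0) (k := 1) (by omega) (by omega) (by omega),
    by exact_mod_cast natCast_ne (a := a) (j := 0) (k := 2) (by omega) (by omega) (by omega),
    by exact_mod_cast natCast_ne (a := a) (j := 1) (k := 2) (by omega) (by omega) (by omega),
    by exact_mod_cast hneg 0 (by omega), by exact_mod_cast hneg 1 (by omega),
    by exact_mod_cast hneg 2 (by omega)⟩

theorem good_four (hp : p.Prime) (hp3 : 3 ≤ p) (hi : 1 ≤ i) (ha : a = p ^ i) (ha5 : 5 ≤ a)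
    {τ : Perm (ZMod a)} (hτ : ∃ j : ℕ, τ ^ p ^ j = 1) {x y : ZMod a} (π : Perm (ZMod a))
    (p0 : π x = 0) (p1 : π (τ x) = 1) (p2 : π y = 2) (p3 : π (τ y) = -1) :
    Good p (rot a) (π * τ * π⁻¹) := by
  have q0 := conj_eval π τ p0 p1
  have q2 := conj_eval π τ p2 p3
  refine ⟨swap_not_ppow hp hp3 (x := (0 : ZMod a)) (y := 2) ?_ ?_ (cast_ne_five ha5).2.1, ?_⟩
  · rw [Perm.mul_apply, q0]; simp [rot]; norm_num
  · rw [Perm.mul_apply, q2]; simp [rot]
  · refine not_solvable_of_residues hp hp3 hi ha (conj_ppow hτ π) 0 2 4 ?_ ?_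
    · rw [q0, q2]; push_cast; ring
    · intro hdvd
      have : p ∣ 4 := by exact_mod_cast hdvd
      have h2 := (Nat.prime_dvd_prime_iff_eq hp Nat.prime_two).1 (hp.dvd_of_dvd_pow (show p ∣ 2 ^ 2 from this))
      omega

theorem good_three (hp : p.Prime) (hp3 : 3 ≤ p) (hi : 1 ≤ i) (ha : a = p ^ i) (ha5 : 5 ≤ a)
    {τ : Perm (ZMod a)} (hτ : ∃ j : ℕ, τ ^ p ^ j = 1) {x : ZMod a}
    (hfix : ∀ z, z ≠ x → z ≠ τ x → z ≠ τ (τ x) → τ z = z) (π : Perm (ZMod a))
    (p0 : π x = 0) (p1 : π (τ x) = 2) (p2 : π (τ (τ x)) = 1) : Good p (rot a) (π * τ * π⁻¹) := by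
  have q0 := conj_eval π τ p0 p1
  have qfix : ∀ z, z ≠ 0 → z ≠ 1 → z ≠ 2 → (π * τ * π⁻¹) z = z := by
    intro z z0 z1 z2
    have hzπ : π (π.symm z) = z := π.apply_symm_apply z
    refine conj_eval π τ hzπ ?_
    rw [hfix _ (fun h => z0 (by rw [← hzπ, h, p0])) (fun h => z2 (by rw [← hzπ, h, p1]))
      (fun h => z1 (by rw [← hzπ, h, p2])), hzπ]
  refine ⟨?_, ?_⟩
  · rintro ⟨k, hk⟩
    set f := rot a * (π * τ * π⁻¹) with hf
    have hstep : ∀ m, m + 1 ≤ a - 2 → f^[m + 1] 0 = ((m + 3 : ℕ) : ZMod a) := by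
      intro m hm
      induction m with
      | zero =>
        show f 0 = _
        rw [hf, Perm.mul_apply, q0]; simp [rot]; norm_num
      | succ m ih =>
        rw [Function.iterate_succ_apply', ih (by omega), hf, Perm.mul_apply,
          qfix _ (by exact_mod_cast natCast_ne (a := a) (j := m + 3) (k := 0) (by omega) (by omega) (by omega))
            (by exact_mod_cast natCast_ne (a := a) (j := m + 3) (k := 1) (by omega) (by omega) (by omega))
            (by exact_mod_cast natCast_ne (a := a) (j := m + 3) (k := 2) (by omega) (by omega) (by omega))]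
        simp [rot, add_assoc]
        norm_num
    have hper : Function.IsPeriodicPt f (a - 2) 0 := by
      show f^[a - 2] 0 = 0
      rw [show a - 2 = (a - 3) + 1 by omega, hstep _ (by omega), show a - 3 + 3 = a by omega,
        ZMod.natCast_self]
    have hk' : Function.IsPeriodicPt f (p ^ k) 0 := by
      show f^[p ^ k] 0 = 0
      rw [← Perm.coe_pow, ← hk, pow_orderOf_eq_one, Perm.one_apply]
    have hcop : (a - 2).Coprime (p ^ k) := by
      refine Nat.Coprime.pow_right k ?_
      rw [Nat.coprime_comm, hp.coprime_iff_not_dvd]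
      intro hd
      have := Nat.dvd_sub (show p ∣ a from ha ▸ dvd_pow_self p (by omega)) hd
      rw [show a - (a - 2) = 2 by omega] at this
      have := Nat.le_of_dvd two_pos this
      omega
    have hg := hper.gcd hk'
    rw [hcop.gcd_eq_one] at hg
    have h1 := hstep 0 (by omega)
    exact natCast_ne (a := a) (j := 3) (k := 0) (by omega) (by omega) (by omega)
      (h1.symm.trans (hg.trans Nat.cast_zero.symm))
  · refine not_solvable_of_residues hp hp3 hi ha (conj_ppow hτ π) 0 3 2 ?_ ?_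
    · rw [q0, qfix 3]
      · push_cast; ring
      · exact_mod_cast natCast_ne (a := a) (j := 3) (k := 0) (by omega) (by omega) (by omega)
      · exact_mod_cast natCast_ne (a := a) (j := 3) (k := 1) (by omega) (by omega) (by omega)
      · exact_mod_cast natCast_ne (a := a) (j := 3) (k := 2) (by omega) (by omega) (by omega)
    · intro hd
      have : p ∣ 2 := by exact_mod_cast hd
      have := Nat.le_of_dvd two_pos this
      omega

set_option maxRecDepth 20000 in
/-- Both classes of five-cycles. -/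
theorem both_five {τ : Perm (ZMod 5)} (hc : τ.IsCycle) (hs : τ.support = Finset.univ) :
    Both 5 (rot 5) τ := by
  have hconj : IsConj (rot 5) τ := isConj_iff_cycleType_eq.2 (by
    rw [(rot_isCycle (a := 5) (by omega)).1.cycleType, hc.cycleType, hs, (rot_isCycle (a := 5) (by omega)).2])
  refine both_of_isConj (IsConj.refl _) hconj ?_
  intro e
  rcases Int.units_eq_one_or e with rfl | rfl
  · refine ⟨Equiv.swap 3 4 * Equiv.swap 1 2, by decide, ?_, ?_⟩
    · refine not_ppow_order (m := 3) (by decide) (by decide) (by decide)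
    · exact not_solvable_of_residues (p := 5) (i := 1) (by norm_num) (by omega) le_rfl (by norm_num)
        ⟨1, by decide⟩ 0 2 3 (by decide) (by decide)
  · refine ⟨Equiv.swap 3 4, by decide, ?_, ?_⟩
    · refine swap_not_ppow (p := 5) (by norm_num) (by omega) (x := (0 : ZMod 5)) (y := 2) (by decide) (by decide)
        (by decide)
    · exact not_solvable_of_residues (p := 5) (i := 1) (by norm_num) (by omega) le_rfl (by norm_num)
        ⟨1, by decide⟩ 0 2 4 (by decide) (by decide)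

theorem both_cycle (hp : p.Prime) (hp3 : 3 ≤ p) (hi : 1 ≤ i) (ha : a = p ^ i) (ha5 : 5 ≤ a)
    {τ : Perm (ZMod a)} (hτ : ∃ j : ℕ, τ ^ p ^ j = 1) (hτ1 : τ ≠ 1) : Both p (rot a) τ := by
  have hcard : Fintype.card (ZMod a) = a := ZMod.card a
  obtain ⟨j, hj⟩ := id hτ
  obtain ⟨m, -, hm⟩ := (Nat.dvd_prime_pow hp).1 (orderOf_dvd_of_pow_eq_one hj)
  rcases Nat.lt_or_ge a 6 with ha6 | ha6
  · have ha5' : a = 5 := by omega
    subst ha5'
    have hp5 : p = 5 := (Nat.prime_dvd_prime_iff_eq hp (by norm_num)).1 (ha ▸ dvd_pow_self p (by omega))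
    subst hp5
    have hd : (5 : ℕ) ^ m ∣ Nat.factorial 5 := by
      have := orderOf_dvd_natCard τ
      rwa [hm, Nat.card_perm, Nat.card_zmod] at this
    have hm1 : m = 1 := by
      have h0 : m ≠ 0 := by
        rintro rfl
        exact hτ1 (orderOf_eq_one_iff.1 hm)
      by_contra h1
      exact absurd ((Nat.pow_dvd_pow 5 (show 2 ≤ m by omega)).trans hd) (by decide)
    have ho : orderOf τ = 5 := by rw [hm, hm1, pow_one]
    have hc : τ.IsCycle := isCycle_of_prime_order (by rw [ho]; exact hp) (by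
      have := Finset.card_le_univ τ.support
      rw [hcard] at this
      omega)
    exact both_five hc (Finset.eq_univ_of_card _ (by rw [← hc.orderOf, ho, hcard]))
  have hext : ∀ {m : ℕ} (f g : Fin m ↪ ZMod a), ∃ π : Perm (ZMod a), ∀ l, π (f l) = g l := by
    intro m f g
    haveI := Equiv.Perm.isMultiplyPretransitive (ZMod a) m
    obtain ⟨π, hπ⟩ := MulAction.exists_smul_eq (Perm (ZMod a)) f g
    exact ⟨π, fun l => DFunLike.congr_fun hπ l⟩
  have hswap : ∀ (F : Finset (ZMod a)), F.card ≤ 4 → ∃ z : Perm (ZMod a), sign z = -1 ∧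
      ∀ x ∈ F, z x = x := by
    intro F hF
    have h1 : 1 < (Fᶜ : Finset (ZMod a)).card := by rw [Finset.card_compl, hcard]; omega
    obtain ⟨r, hr, r', hr', hrr⟩ := Finset.one_lt_card.1 h1
    rw [Finset.mem_compl] at hr hr'
    exact ⟨Equiv.swap r r', sign_swap hrr, fun x hx => Equiv.swap_apply_of_ne_of_ne
      (fun h => hr (h ▸ hx)) (fun h => hr' (h ▸ hx))⟩
  have hno2 : ∀ z, τ (τ z) = z → τ z = z := fun z hz => by
    by_contra hne
    exact swap_not_ppow hp hp3 rfl hz (fun h => hne h.symm) ⟨m, hm⟩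
  obtain ⟨h01, h02, h12, h0n, h1n, h2n⟩ := cast_ne_five (a := a) ha5
  obtain ⟨x, hx⟩ : ∃ x, τ x ≠ x := by
    by_contra h0
    push Not at h0
    exact hτ1 (Equiv.ext h0)
  by_cases h4 : ∃ y, τ y ≠ y ∧ y ≠ x ∧ y ≠ τ x ∧ τ y ≠ x
  · obtain ⟨y, hy, hyx, hyτx, hτyx⟩ := h4
    obtain ⟨π, hπ⟩ := hext
      (⟨![x, τ x, y, τ y], by
        intro k l
        fin_cases k <;> fin_cases l <;> simp [hy, hyx, hyτx, hτyx, hx, Ne.symm hx, Ne.symm hy,
          Ne.symm hyx, Ne.symm hyτx, Ne.symm hτyx, τ.injective.eq_iff]⟩ : Fin 4 ↪ ZMod a)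
      (⟨![0, 1, 2, -1], by
        intro k l
        fin_cases k <;> fin_cases l <;> simp [h01, h02, h12, h0n, h1n, h2n, h01.symm, h02.symm, h12.symm,
          h0n.symm, h1n.symm, h2n.symm]⟩ : Fin 4 ↪ ZMod a)
    have p0 : π x = 0 := hπ 0
    have p1 : π (τ x) = 1 := hπ 1
    have p2 : π y = 2 := hπ 2
    have p3 : π (τ y) = -1 := hπ 3
    obtain ⟨z, hz, hzf⟩ := hswap {0, 1, 2, -1} Finset.card_le_four
    intro e
    rcases Int.units_eq_one_or (sign π * e) with h | h
    · refine ⟨π, ?_, good_four hp hp3 hi ha ha5 hτ π p0 p1 p2 p3⟩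
      rw [← mul_one (sign π), ← h, ← mul_assoc, Int.units_mul_self, one_mul]
    · refine ⟨z * π, ?_, good_four hp hp3 hi ha ha5 hτ (x := x) (y := y) _ ?_ ?_ ?_ ?_⟩
      · rw [map_mul, hz, ← h, mul_comm (sign π) e, mul_assoc, Int.units_mul_self, mul_one]
      · rw [Perm.mul_apply, p0, hzf 0 (by simp)]
      · rw [Perm.mul_apply, p1, hzf 1 (by simp)]
      · rw [Perm.mul_apply, p2, hzf 2 (by simp)]
      · rw [Perm.mul_apply, p3, hzf (-1) (by simp)]
  · push Not at h4
    have hxτ : τ (τ x) ≠ x := fun h => hx (hno2 x h)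
    have hτ3 : τ (τ (τ x)) = x := h4 (τ (τ x)) (fun h => hx (τ.injective (τ.injective h)))
      hxτ (fun h => hx (τ.injective h))
    have hfix : ∀ z, z ≠ x → z ≠ τ x → z ≠ τ (τ x) → τ z = z := by
      intro z z0 z1 z2
      by_contra hz
      exact z2 (τ.injective (by rw [h4 z hz z0 z1, hτ3]))
    obtain ⟨π, hπ⟩ := hext
      (⟨![x, τ x, τ (τ x)], by
        intro k l
        fin_cases k <;> fin_cases l <;> simp [hx, Ne.symm hx, hxτ, Ne.symm hxτ, τ.injective.eq_iff]⟩ : Fin 3 ↪ ZMod a)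
      (⟨![0, 2, 1], by
        intro k l
        fin_cases k <;> fin_cases l <;> simp [h01, h02, h12, h01.symm, h02.symm, h12.symm]⟩ : Fin 3 ↪ ZMod a)
    have p0 : π x = 0 := hπ 0
    have p1 : π (τ x) = 2 := hπ 1
    have p2 : π (τ (τ x)) = 1 := hπ 2
    obtain ⟨z, hz, hzf⟩ := hswap {0, 2, 1} (Finset.card_le_three.trans (by omega))
    intro e
    rcases Int.units_eq_one_or (sign π * e) with h | h
    · refine ⟨π, ?_, good_three hp hp3 hi ha ha5 hτ hfix π p0 p1 p2⟩
      rw [← mul_one (sign π), ← h, ← mul_assoc, Int.units_mul_self, one_mul]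
    · refine ⟨z * π, ?_, good_three hp hp3 hi ha ha5 hτ hfix _ ?_ ?_ ?_⟩
      · rw [map_mul, hz, ← h, mul_comm (sign π) e, mul_assoc, Int.units_mul_self, mul_one]
      · rw [Perm.mul_apply, p0, hzf 0 (by simp)]
      · rw [Perm.mul_apply, p1, hzf 2 (by simp)]
      · rw [Perm.mul_apply, p2, hzf 1 (by simp)]

end Cycle

end CfsgLib.Perm.PElementPairs
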