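import Mathlib

/-!
# Solvable groups generated by a full cycle of odd prime-power length and a second `p`-element

`cyclic_primitive`: a solvable primitive group of degree `p ^ l`, `p` odd, with a transitive cyclic
`p`-subgroup has degree `p`.
`residue_shift`: if `⟨x ↦ x + 1, τ⟩` on `ZMod (p ^ i)` is solvable and `τ` is a `p`-element then `τ`
translates the residues modulo `p`.
-/

set_option autoImplicit false

namespace CfsgLib.Perm.PElementPairs

open MulAction
open scoped commutatorElement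

set_option linter.style.haveILetI false

theorem succ_le_three_pow : ∀ l : ℕ, 2 ≤ l → l + 1 ≤ 3 ^ (l - 1) := by
  intro l hl
  induction l, hl using Nat.le_induction with
  | base => norm_num
  | succ n hn ih =>
    have : 3 ^ (n + 1 - 1) = 3 * 3 ^ (n - 1) := by
      rw [← pow_succ']; congr 1; omega
    omega

section Affine

variable {V : Type*} [AddCommGroup V] {p : ℕ} [Fact p.Prime] [Module (ZMod p) V]

open Polynomial in
theorem unipotent_period [Finite V] {l i : ℕ} (hV : Nat.card V = p ^ l) (φ : Module.End (ZMod p) V)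
    (hφ : φ ^ p ^ i = 1) {q m : ℕ} (hq : q = p ^ m) (hlq : l + 1 ≤ q) :
    φ ^ q = 1 ∧ ∑ j ∈ Finset.range q, φ ^ j = 0 := by
  haveI : Module.Finite (ZMod p) V := Module.Finite.of_finite
  have hfr : Module.finrank (ZMod p) V = l := by
    have h1 : Nat.card V = Nat.card (ZMod p) ^ Module.finrank (ZMod p) V :=
      Module.natCard_eq_pow_finrank
    rw [hV, Nat.card_zmod] at h1
    exact (Nat.pow_right_injective (Fact.out : p.Prime).two_le h1).symm
  have hpol : ∀ k : ℕ, ((X : (ZMod p)[X]) - 1) ^ p ^ k = X ^ p ^ k - 1 := fun k => by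
    rw [sub_pow_char_pow (p := p), one_pow]
  have hnil : (φ - 1) ^ p ^ i = 0 := by
    have := congrArg (aeval φ) (hpol i)
    simpa [hφ] using this
  have hl0 : (φ - 1) ^ l = 0 := by
    have h1 : LinearMap.ker ((φ - 1) ^ max l (p ^ i)) =
        LinearMap.ker ((φ - 1) ^ l) := by
      conv_rhs => rw [← hfr]
      exact Module.End.ker_pow_eq_ker_pow_finrank_of_le (hfr ▸ le_max_left _ _)
    have h2 : (φ - 1) ^ max l (p ^ i) = 0 := pow_eq_zero_of_le (le_max_right _ _) hnil
    rw [h2, LinearMap.ker_zero] at h1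
    exact LinearMap.ker_eq_top.1 h1.symm
  have hgeom : ∑ j ∈ Finset.range q, (X : (ZMod p)[X]) ^ j = (X - 1) ^ (q - 1) := by
    have hne : (X : (ZMod p)[X]) - 1 ≠ 0 := by
      simpa using (Polynomial.X_sub_C_ne_zero (1 : ZMod p))
    refine mul_right_cancel₀ hne ?_
    rw [geom_sum_mul, ← pow_succ, Nat.sub_add_cancel (by omega), hq, hpol]
  refine ⟨?_, ?_⟩
  · have h := congrArg (aeval φ) (hpol m)
    simp only [map_sub, map_pow, aeval_X, map_one] at h
    rw [← hq] at h
    rw [pow_eq_zero_of_le (by omega) hl0] at h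
    exact sub_eq_zero.1 h.symm
  · have h := congrArg (aeval φ) hgeom
    simp only [map_sum, map_sub, map_pow, aeval_X, map_one] at h
    rw [h]
    exact pow_eq_zero_of_le (by omega) hl0

theorem affine_period_aux {V X : Type*} [CommGroup V] [Finite V] [MulAction V X] {p l i : ℕ} [Fact p.Prime]
    (hV : Nat.card V = p ^ l) [Module (ZMod p) (Additive V)] (φ : V →* V) (hφ : ∀ a, φ^[p ^ i] a = a)
    (f : X → X) (x₀ : X) (v : V) (hf : ∀ a : V, f (a • x₀) = (φ a * v) • x₀)
    {m : ℕ} (hm : l + 1 ≤ p ^ m) (a : V) : f^[p ^ m] (a • x₀) = a • x₀ := by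
  let L : Module.End (ZMod p) (Additive V) := (MonoidHom.toAdditive φ).toZModLinearMap p
  have hL : ∀ (k : ℕ) (b : Additive V), Additive.toMul ((L ^ k) b) = φ^[k] (Additive.toMul b) := by
    intro k
    induction k with
    | zero => intro b; simp
    | succ k ih =>
      intro b
      rw [pow_succ L, Module.End.mul_apply, ih, Function.iterate_succ_apply]
      rfl
  obtain ⟨h1, h2⟩ := unipotent_period (p := p) (V := Additive V) (l := l) (i := i)
    hV L (LinearMap.ext fun b => Additive.toMul.injective (by rw [hL, hφ]; rfl)) (m := m) rfl hm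
  have hiter : ∀ (k : ℕ) (b : Additive V), f^[k] (Additive.toMul b • x₀) =
      Additive.toMul ((L ^ k) b + (∑ j ∈ Finset.range k, L ^ j) (Additive.ofMul v)) • x₀ := by
    intro k
    induction k with
    | zero => intro b; simp
    | succ k ih =>
      intro b
      have hstep : f (Additive.toMul b • x₀) = Additive.toMul (L b + Additive.ofMul v) • x₀ := by
        rw [hf, toMul_add, toMul_ofMul]
        rfl
      rw [Function.iterate_succ_apply, hstep, ih, Finset.sum_range_succ, pow_succ L,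
        Module.End.mul_apply, map_add (L ^ k), LinearMap.add_apply]
      refine congrArg (fun z : Additive V => Additive.toMul z • x₀) ?_
      abel
  have h3 := hiter (p ^ m) (Additive.ofMul a)
  rw [h1, h2] at h3
  simpa using h3

theorem affine_period {V X : Type*} [CommGroup V] [Finite V] [MulAction V X] {p l i : ℕ} [Fact p.Prime]
    (hV : Nat.card V = p ^ l) (hexp : ∀ a : V, a ^ p = 1) (φ : V →* V) (hφ : ∀ a, φ^[p ^ i] a = a)
    (f : X → X) (x₀ : X) (v : V) (hf : ∀ a : V, f (a • x₀) = (φ a * v) • x₀)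
    {m : ℕ} (hm : l + 1 ≤ p ^ m) (a : V) : f^[p ^ m] (a • x₀) = a • x₀ := by
  exact @affine_period_aux V X _ _ _ p l i _ hV (AddCommGroup.zmodModule (n := p) (fun b => by
    apply Additive.toMul.injective
    rw [toMul_nsmul, toMul_zero]
    exact hexp _)) φ hφ f x₀ v hf m hm a

end Affine

section Primitive

variable {H X : Type*} [Group H] [MulAction H X]

theorem fixed_eq_one_of_comm [FaithfulSMul H X] (A : Subgroup H)
    (hA : ∀ a ∈ A, ∀ b ∈ A, a * b = b * a) [MulAction.IsPretransitive A X] {a : H} (ha : a ∈ A)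
    {x : X} (hx : a • x = x) : a = 1 := by
  refine FaithfulSMul.eq_of_smul_eq_smul (α := X) fun y => ?_
  obtain ⟨b, rfl⟩ := MulAction.exists_smul_eq A x y
  show a • ((b : H) • x) = (1 : H) • ((b : H) • x)
  rw [one_smul, smul_smul, hA a ha b b.2, ← smul_smul, hx]

/-- A solvable primitive group of degree `p ^ l`, `p` odd, having a transitive cyclic `p`-subgroup
has degree `p`, and its `p`-elements are the powers of the transitive one. -/
theorem cyclic_primitive [Finite H] [Finite X] [FaithfulSMul H X] [Group.IsSolvable H]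
    [hprim : MulAction.IsPreprimitive H X] {p l i : ℕ} (hp : p.Prime) (hp3 : 3 ≤ p) (hl : 1 ≤ l)
    (hX : Nat.card X = p ^ l) (h : H) (hh : h ^ p ^ i = 1)
    (htr : ∀ x y : X, ∃ k : ℕ, h ^ k • x = y) :
    orderOf h = p ∧ (∀ g : H, (∃ j : ℕ, g ^ p ^ j = 1) → ∃ c : ℕ, g = h ^ c) := by
  haveI := Fact.mk hp
  have hX1 : 1 < Nat.card X := by rw [hX]; exact Nat.one_lt_pow (by omega) hp.one_lt
  haveI : Nontrivial X := Finite.one_lt_card_iff_nontrivial.1 hX1
  obtain ⟨x₀⟩ : Nonempty X := inferInstance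
  have htrN : ∀ N : Subgroup H, N.Normal → N ≠ ⊥ → MulAction.IsPretransitive N X := by
    intro N hN hN1
    haveI := hN
    refine MulAction.IsQuasiPreprimitive.isPretransitive_of_normal (N := N) ?_
    intro hfix
    obtain ⟨a, ha, ha1⟩ := (Subgroup.ne_bot_iff_exists_ne_one).1 hN1 |>.elim fun a ha1 =>
      (⟨(a : H), a.2, fun h1 => ha1 (Subtype.ext h1)⟩ : ∃ a : H, a ∈ N ∧ a ≠ 1)
    refine ha1 (FaithfulSMul.eq_of_smul_eq_smul (α := X) fun y => ?_)
    have hy : y ∈ MulAction.fixedPoints N X := by rw [hfix]; trivial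
    rw [one_smul]
    exact hy ⟨a, ha⟩
  -- an abelian normal subgroup
  obtain ⟨n, hn⟩ := (Group.isSolvable_def H).1 inferInstance
  have hH1 : (⊤ : Subgroup H) ≠ ⊥ := by
    intro h0
    obtain ⟨x, y, hxy⟩ := exists_pair_ne X
    obtain ⟨k, hk⟩ := htr x y
    have : h ^ k = 1 := Subgroup.mem_bot.1 (h0 ▸ Subgroup.mem_top (h ^ k))
    rw [this, one_smul] at hk
    exact hxy hk
  classical
  have hex : ∃ n, derivedSeries H n = ⊥ := ⟨n, hn⟩
  have hn0 : Nat.find hex ≠ 0 := fun h0 => hH1 (by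
    have := Nat.find_spec hex
    rwa [h0, derivedSeries_zero] at this)
  obtain ⟨k, hk⟩ := Nat.exists_eq_succ_of_ne_zero hn0
  have hA0 : derivedSeries H k ≠ ⊥ := Nat.find_min hex (by omega)
  set A₀ := derivedSeries H k
  haveI hA₀n : A₀.Normal := derivedSeries_normal H k
  have hA₀c : ∀ a ∈ A₀, ∀ b ∈ A₀, a * b = b * a := by
    intro a ha b hb
    have h1 : ⁅a, b⁆ ∈ derivedSeries H (k + 1) := Subgroup.commutator_mem_commutator ha hb
    have h2 := Nat.find_spec hex
    rw [hk] at h2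
    rw [h2, Subgroup.mem_bot] at h1
    exact commutatorElement_eq_one_iff_mul_comm.1 h1
  haveI hA₀t := htrN A₀ hA₀n hA0
  have hcard : ∀ (B : Subgroup H), B ≤ A₀ → MulAction.IsPretransitive B X → Nat.card B = p ^ l := by
    intro B hB hBt
    rw [← hX]
    refine Nat.card_eq_of_bijective (fun b : B => (b : H) • x₀) ⟨fun b c hbc => ?_, fun y => ?_⟩
    · have hbc' : (b : H) • x₀ = (c : H) • x₀ := hbc
      have : ((c : H)⁻¹ * b) = 1 := fixed_eq_one_of_comm A₀ hA₀c
        (A₀.mul_mem (A₀.inv_mem (hB c.2)) (hB b.2)) (x := x₀)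
        (by rw [mul_smul, hbc', inv_smul_smul])
      exact Subtype.ext (inv_mul_eq_one.1 this).symm
    · exact MulAction.exists_smul_eq B x₀ y
  let A : Subgroup H :=
    { carrier := {a | a ∈ A₀ ∧ a ^ p = 1}
      one_mem' := ⟨A₀.one_mem, one_pow p⟩
      mul_mem' := fun {a b} ha hb => ⟨A₀.mul_mem ha.1 hb.1, by
        have : Commute a b := hA₀c a ha.1 b hb.1
        rw [this.mul_pow, ha.2, hb.2, one_mul]⟩
      inv_mem' := fun {a} ha => ⟨A₀.inv_mem ha.1, by rw [inv_pow, ha.2, inv_one]⟩ }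
  have hAle : A ≤ A₀ := fun a ha => ha.1
  haveI hAn : A.Normal := ⟨fun a ha g => ⟨hA₀n.conj_mem a ha.1 g, by
    rw [conj_pow, ha.2, mul_one, mul_inv_cancel]⟩⟩
  have hA1 : A ≠ ⊥ := by
    haveI : Finite A₀ := inferInstance
    have hdvd : p ∣ Nat.card A₀ := by
      rw [hcard A₀ le_rfl hA₀t]; exact dvd_pow_self p (by omega)
    obtain ⟨a, ha⟩ := exists_prime_orderOf_dvd_card' p hdvd
    intro h0
    have h1 : (a : H) ∈ A := ⟨a.2, by
      rw [← SubgroupClass.coe_pow, ← ha, pow_orderOf_eq_one, OneMemClass.coe_one]⟩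
    rw [h0, Subgroup.mem_bot] at h1
    have : a = 1 := Subtype.ext h1
    rw [this, orderOf_one] at ha
    exact hp.one_lt.ne ha
  haveI hAt := htrN A hAn hA1
  have hcA : Nat.card A = p ^ l := hcard A hAle hAt
  have hAc : ∀ a ∈ A, ∀ b ∈ A, a * b = b * a := fun a ha b hb =>
    hA₀c a (hAle ha) b (hAle hb)
  -- the degree is `p`
  have hl1 : l = 1 := by
    by_contra hl1
    letI : CommGroup A := { (inferInstance : Group A) with
      mul_comm := fun a b => Subtype.ext (hAc a a.2 b b.2) }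
    let φ : A →* A := (MulAut.conjNormal (H := A) h).toMonoidHom
    have hφk : ∀ (k : ℕ) (a : A), ((φ^[k] a : A) : H) = h ^ k * a * (h ^ k)⁻¹ := by
      intro k
      induction k with
      | zero => intro a; simp
      | succ k ih =>
        intro a
        rw [Function.iterate_succ_apply, ih, pow_succ, mul_inv_rev]
        show h ^ k * ((MulAut.conjNormal (H := A) h a : A) : H) * (h ^ k)⁻¹ = _
        rw [MulAut.conjNormal_apply]
        group
    have hφ : ∀ a : A, φ^[p ^ i] a = a := fun a => Subtype.ext (by rw [hφk, hh]; simp)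
    obtain ⟨v, hv⟩ := MulAction.exists_smul_eq A x₀ (h • x₀)
    have hv' : (v : H) • x₀ = h • x₀ := hv
    have hq : l + 1 ≤ p ^ (l - 1) :=
      (succ_le_three_pow l (by omega)).trans (Nat.pow_le_pow_left hp3 _)
    have hfix : ∀ y : X, h ^ p ^ (l - 1) • y = y := by
      intro y
      obtain ⟨a, rfl⟩ := MulAction.exists_smul_eq A x₀ y
      rw [← smul_iterate_apply]
      exact affine_period (V := A) (X := X) (p := p) (l := l) (i := i) hcA (fun b => Subtype.ext b.2.2)
        φ hφ (fun z => h • z) x₀ v (fun b => by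
          show h • (b : H) • x₀ = ((φ b * v : A) : H) • x₀
          rw [Subgroup.coe_mul]
          show _ = (((MulAut.conjNormal (H := A) h b : A) : H) * v) • x₀
          rw [MulAut.conjNormal_apply, mul_smul, mul_smul, mul_smul, hv', inv_smul_smul]) hq a
    have hh1 : h ^ p ^ (l - 1) = 1 := FaithfulSMul.eq_of_smul_eq_smul (α := X) fun y => by
      rw [hfix, one_smul]
    have hle : Nat.card X ≤ Nat.card (Fin (p ^ (l - 1))) := by
      refine Nat.card_le_card_of_surjective (fun j : Fin (p ^ (l - 1)) => h ^ (j : ℕ) • x₀) fun y => ?_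
      obtain ⟨k, hk⟩ := htr x₀ y
      refine ⟨⟨k % p ^ (l - 1), Nat.mod_lt _ (pow_pos hp.pos _)⟩, ?_⟩
      show h ^ (k % p ^ (l - 1)) • x₀ = y
      rw [← hk]
      conv_rhs => rw [← Nat.mod_add_div k (p ^ (l - 1)), pow_add, pow_mul, hh1, one_pow, mul_one]
    rw [hX, Nat.card_fin] at hle
    have := (Nat.pow_le_pow_iff_right hp.one_lt).1 hle
    omega
  subst hl1
  rw [pow_one] at hcA hX
  have hcop : (A.index).Coprime p := by
    rw [Nat.coprime_comm, hp.coprime_iff_not_dvd]
    intro hdvd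
    have h1 : p * p ∣ Nat.card H := by
      rw [← A.card_mul_index, hcA]; exact Nat.mul_dvd_mul_left p hdvd
    have h2 : Nat.card H ∣ (Nat.card X).factorial := by
      rw [← Nat.card_perm]
      exact Subgroup.card_dvd_of_injective (MulAction.toPermHom H X) MulAction.toPerm_injective
    rw [hX] at h2
    obtain ⟨q, hq⟩ : ∃ q, p = q + 1 := ⟨p - 1, by omega⟩
    have h3 := h1.trans h2
    rw [hq, Nat.factorial_succ, ← hq] at h3
    have h4 : p ∣ q.factorial := Nat.dvd_of_mul_dvd_mul_left hp.pos h3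
    have := hp.dvd_factorial.1 h4
    omega
  have hmem : ∀ g : H, (∃ j : ℕ, g ^ p ^ j = 1) → g ∈ A := by
    rintro g ⟨j, hj⟩
    rw [← QuotientGroup.eq_one_iff, ← orderOf_eq_one_iff]
    refine Nat.eq_one_of_dvd_coprimes (hcop.pow_right j) (orderOf_dvd_natCard _) ?_
    rw [orderOf_dvd_iff_pow_eq_one, ← QuotientGroup.mk_pow, hj, QuotientGroup.mk_one]
  have hhA : h ∈ A := hmem h ⟨i, hh⟩
  have hh1 : h ≠ 1 := by
    intro h1
    obtain ⟨x, y, hxy⟩ := exists_pair_ne X
    obtain ⟨k, hk⟩ := htr x y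
    rw [h1, one_pow, one_smul] at hk
    exact hxy hk
  have hord : orderOf h = p := orderOf_eq_prime hhA.2 hh1
  refine ⟨hord, fun g hg => ?_⟩
  have hz : Subgroup.zpowers h = A := Subgroup.eq_of_le_of_card_ge
    (Subgroup.zpowers_le.2 hhA) (by rw [hcA, Nat.card_zpowers, hord])
  have hgz : g ∈ Submonoid.powers h := mem_powers_iff_mem_zpowers.2 (hz ▸ hmem g hg)
  obtain ⟨c, hc⟩ := hgz
  exact ⟨c, hc.symm⟩

end Primitive

/-- Translation by one. -/
def rot (a : ℕ) : Equiv.Perm (ZMod a) := Equiv.addRight 1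

theorem rot_pow_apply {a : ℕ} (k : ℕ) (x : ZMod a) : (rot a ^ k) x = x + k := by
  induction k with
  | zero => simp
  | succ k ih =>
    rw [pow_succ', Equiv.Perm.mul_apply, ih, Nat.cast_succ, ← add_assoc]
    rfl

theorem rot_pow_eq {a k m : ℕ} (h : (k : ZMod a) = m) : rot a ^ k = rot a ^ m :=
  Equiv.ext fun x => by rw [rot_pow_apply, rot_pow_apply, h]

/-- The key step: a `p`-element generating a solvable group with a full cycle of length `p ^ i`
translates the residues modulo `p`. -/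
theorem residue_shift {p i : ℕ} (hp : p.Prime) (hp3 : 3 ≤ p) (hi : 1 ≤ i) {a : ℕ} [NeZero a] (ha : a = p ^ i)
    (τ : Equiv.Perm (ZMod a)) (hτ : ∃ j : ℕ, τ ^ p ^ j = 1)
    (hsol : Group.IsSolvable (Subgroup.closure ({rot a, τ} : Set (Equiv.Perm (ZMod a))))) :
    ∃ c : ℕ, ∀ x : ZMod a, (τ x).val ≡ c + x.val [MOD p] := by
  haveI := hsol
  set G := Subgroup.closure ({rot a, τ} : Set (Equiv.Perm (ZMod a))) with hG
  let r : G := ⟨rot a, Subgroup.subset_closure (Or.inl rfl)⟩
  let t : G := ⟨τ, Subgroup.subset_closure (Or.inr rfl)⟩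
  have hr : ∀ k : ℕ, ∀ x : ZMod a, r ^ k • x = x + k := fun k x => rot_pow_apply k x
  haveI : MulAction.IsPretransitive G (ZMod a) := MulAction.IsPretransitive.mk fun x y =>
    ⟨r ^ (y - x).val, by rw [hr, ZMod.natCast_zmod_val, add_sub_cancel]⟩
  have hidx : (MulAction.stabilizer G (0 : ZMod a)).index = a := by
    rw [MulAction.index_stabilizer_of_transitive, Nat.card_zmod]
  have hne : MulAction.stabilizer G (0 : ZMod a) ≠ ⊤ := by
    intro h0
    rw [h0, Subgroup.index_top] at hidx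
    exact (Nat.one_lt_pow (by omega) hp.one_lt).ne (hidx.trans ha)
  obtain h0 | ⟨M, hM, hSM⟩ := eq_top_or_exists_le_coatom (MulAction.stabilizer G (0 : ZMod a))
  · exact absurd h0 hne
  have hdvd : M.index ∣ p ^ i := ha ▸ (dvd_trans (Subgroup.index_dvd_of_le hSM) (dvd_of_eq hidx))
  obtain ⟨l, -, hl⟩ := (Nat.dvd_prime_pow hp).1 hdvd
  have hl1 : 1 ≤ l := by
    rcases Nat.eq_zero_or_pos l with h0 | h0
    · rw [h0, pow_zero, Subgroup.index_eq_one] at hl
      exact absurd hl hM.1
    · exact h0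
  have hX : Nat.card (G ⧸ M) = p ^ l := hl
  haveI : Nontrivial (G ⧸ M) := Finite.one_lt_card_iff_nontrivial.1
    (by rw [hX]; exact Nat.one_lt_pow (by omega) hp.one_lt)
  haveI hprimG : MulAction.IsPreprimitive G (G ⧸ M) := by
    rw [← MulAction.isCoatom_stabilizer_iff_preprimitive G ((1 : G) : G ⧸ M), MulAction.stabilizer_quotient]
    exact hM
  set H := (MulAction.toPermHom G (G ⧸ M)).range with hH
  let π := (MulAction.toPermHom G (G ⧸ M)).rangeRestrict
  haveI : Group.IsSolvable H :=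
    Group.isSolvable_of_surjective (MulAction.toPermHom G (G ⧸ M)).rangeRestrict_surjective
  let f : (G ⧸ M) →ₑ[⇑π] (G ⧸ M) := ⟨id, fun g x => rfl⟩
  haveI : MulAction.IsPreprimitive H (G ⧸ M) :=
    MulAction.IsPreprimitive.of_surjective (f := f) Function.surjective_id
  -- every coset is represented by a power of the cycle
  have hrep : ∀ g : G, ∀ m : ℕ, g • (0 : ZMod a) = m → (g : G ⧸ M) = ((r ^ m : G) : G ⧸ M) := by
    intro g m hm
    rw [QuotientGroup.eq]
    refine hSM ?_
    rw [MulAction.mem_stabilizer_iff, mul_smul, hr, zero_add, ← hm, inv_smul_smul]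
  have hpow : r ^ a = 1 := Subtype.ext (Equiv.ext fun x => by
    show (rot a ^ a) x = x
    rw [rot_pow_apply, ZMod.natCast_self, add_zero])
  have hh : π r ^ p ^ i = 1 := by rw [← map_pow, ← ha, hpow, map_one]
  have htr : ∀ x y : G ⧸ M, ∃ k : ℕ, π r ^ k • x = y := by
    intro x y
    obtain ⟨g, rfl⟩ := QuotientGroup.mk_surjective x
    obtain ⟨g', rfl⟩ := QuotientGroup.mk_surjective y
    rw [hrep g _ (ZMod.natCast_zmod_val _).symm, hrep g' _ (ZMod.natCast_zmod_val _).symm]
    refine ⟨(g' • (0 : ZMod a) - g • (0 : ZMod a)).val, ?_⟩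
    rw [← map_pow]
    show r ^ _ • ((r ^ _ : G) : G ⧸ M) = _
    rw [MulAction.Quotient.smul_coe, smul_eq_mul, ← pow_add]
    refine congrArg QuotientGroup.mk (Subtype.ext ?_)
    show rot a ^ _ = rot a ^ _
    exact rot_pow_eq (by push_cast [ZMod.natCast_zmod_val]; ring)
  obtain ⟨hord, hgen⟩ := cyclic_primitive (H := H) (X := G ⧸ M) hp hp3 hl1 hX (π r) hh htr
  obtain ⟨j, hj⟩ := hτ
  obtain ⟨c, hc⟩ := hgen (π t) ⟨j, by
    rw [← map_pow, show t ^ p ^ j = 1 from Subtype.ext hj, map_one]⟩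
  refine ⟨c, fun x => ?_⟩
  rw [← hord]
  rw [← pow_eq_pow_iff_modEq]
  apply Subtype.ext
  refine Equiv.ext fun y => ?_
  show (π r ^ _) • y = (π r ^ _) • y
  obtain ⟨k, rfl⟩ := htr ((1 : G) : G ⧸ M) y
  rw [smul_smul, smul_smul, ← pow_add, ← pow_add, add_comm _ k, add_comm _ k, pow_add, pow_add,
    ← smul_smul, ← smul_smul]
  congr 1
  rw [pow_add, ← hc, ← map_pow, ← map_pow, ← map_mul]
  show r ^ (τ x).val • ((1 : G) : G ⧸ M) = (t * r ^ x.val) • ((1 : G) : G ⧸ M)
  rw [MulAction.Quotient.smul_coe, MulAction.Quotient.smul_coe, smul_eq_mul, smul_eq_mul, mul_one,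
    mul_one]
  refine (hrep (t * r ^ x.val) _ ?_).symm
  rw [mul_smul, hr, zero_add, ZMod.natCast_zmod_val, ZMod.natCast_zmod_val]
  rfl

end CfsgLib.Perm.PElementPairs
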